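import Groth.Agent.BigFieldLib.Embed
import Mathlib

/-!
Automorphisms of big algebraically closed fields with prescribed restriction to a small subfield.
-/

set_option autoImplicit false

universe u

open Cardinal

namespace Groth.Agent.BigFieldLib

theorem exists_bigField (L : Type u) [Field L] :
    ∃ (K : Type u) (_ : Field K) (_ : Algebra L K), IsAlgClosed K ∧ #L < #K ∧ ℵ₀ < #K := by
  let ι : Type u := Set (L ⊕ ULift.{u} ℕ)
  let K := AlgebraicClosure (FractionRing (MvPolynomial ι L))
  have h1 : #ι ≤ #K := mk_le_of_injective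
    (f := fun i : ι => algebraMap (FractionRing (MvPolynomial ι L)) K
      (algebraMap (MvPolynomial ι L) _ (MvPolynomial.X i))) fun i j h =>
    MvPolynomial.X_injective (IsFractionRing.injective (MvPolynomial ι L) (FractionRing (MvPolynomial ι L))
      ((algebraMap (FractionRing (MvPolynomial ι L)) K).injective h))
  have h2 : #L + ℵ₀ < #ι := by
    have h := cantor #(L ⊕ ULift.{u} ℕ)
    rw [mk_set]
    simpa [mk_sum] using h
  exact ⟨K, inferInstance, inferInstance, inferInstance, (self_le_add_right _ _).trans_lt (h2.trans_le h1),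
    (self_le_add_left _ _).trans_lt (h2.trans_le h1)⟩

theorem mk_transcendenceBasis {F K : Type u} [Field F] [Field K] [Algebra F K] [IsAlgClosed K]
    (hF : #F < #K) (hK : ℵ₀ < #K) {B : Type u} (v : B → K) (hv : IsTranscendenceBasis F v) :
    #B = #K := by
  refine le_antisymm (mk_le_of_injective hv.1.injective) ?_
  by_contra hc
  have := IsAlgClosed.cardinal_le_max_transcendence_basis' v hv
  exact absurd this (not_le.2 (max_lt (max_lt hF (not_le.1 hc)) hK))

theorem exists_equiv {Q L M : Type u} [Field Q] [Field L] [Field M] [Algebra Q L] [Algebra Q M]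
    [IsAlgClosure Q L] [IsAlgClosure Q M] :
    ∃ σ : L ≃+* M, σ.toRingHom.comp (algebraMap Q L) = algebraMap Q M :=
  ⟨(IsAlgClosure.equiv Q L M).toRingEquiv, RingHom.ext (IsAlgClosure.equiv Q L M).commutes⟩

theorem exists_fractionMap {F K B : Type u} [Field F] [Field K] [Algebra F K] (v : B → K)
    (hv : IsTranscendenceBasis F v) :
    ∃ q : FractionRing (MvPolynomial B F) →+* K,
      (∀ a, q (algebraMap (MvPolynomial B F) _ (MvPolynomial.C a)) = algebraMap F K a) ∧
        @Algebra.IsAlgebraic (FractionRing (MvPolynomial B F)) K _ _ q.toAlgebra := by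
  let r : MvPolynomial B F →+* K := (MvPolynomial.aeval v).toRingHom
  have hr : Function.Injective r := hv.1
  let q : FractionRing (MvPolynomial B F) →+* K := IsFractionRing.lift hr
  refine ⟨q, fun a => ?_, ?_⟩
  · rw [IsFractionRing.lift_algebraMap hr]
    exact MvPolynomial.aeval_C v a
  letI : Algebra (MvPolynomial B F) K := r.toAlgebra
  letI : Algebra (FractionRing (MvPolynomial B F)) K := q.toAlgebra
  haveI := hv.isAlgebraic
  haveI : Algebra.IsAlgebraic (MvPolynomial B F) K :=
    Algebra.IsAlgebraic.of_ringHom_of_comp_eq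
      (hv.1.aevalEquiv.toAlgHom.toRingHom : MvPolynomial B F →+* Algebra.adjoin F (Set.range v))
      (RingHom.id K) hv.1.aevalEquiv.surjective Function.injective_id
      (RingHom.ext fun p => hv.1.algebraMap_aevalEquiv p)
  haveI : IsScalarTower (MvPolynomial B F) (FractionRing (MvPolynomial B F)) K :=
    .of_algebraMap_eq fun a => (IsFractionRing.lift_algebraMap hr a).symm
  exact Algebra.IsAlgebraic.extendScalars
    (IsFractionRing.injective (MvPolynomial B F) (FractionRing (MvPolynomial B F)))

/-- Two embeddings of a small field into a big algebraically closed field differ by an automorphism. -/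
theorem exists_aut {F K : Type u} [Field F] [Field K] [IsAlgClosed K] (hF : #F < #K) (hK : ℵ₀ < #K)
    (f g : F →+* K) : ∃ e : K ≃+* K, e.toRingHom.comp f = g := by
  obtain ⟨B₁, v₁, hv₁⟩ :
      ∃ (B : Type u) (v : B → K), @IsTranscendenceBasis B F K _ _ f.toAlgebra v := by
    let := f.toAlgebra
    exact exists_isTranscendenceBasis' F K
  obtain ⟨B₂, v₂, hv₂⟩ :
      ∃ (B : Type u) (v : B → K), @IsTranscendenceBasis B F K _ _ g.toAlgebra v := by
    let := g.toAlgebra
    exact exists_isTranscendenceBasis' F K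
  have c₁ : #B₁ = #K := by let := f.toAlgebra; exact mk_transcendenceBasis hF hK v₁ hv₁
  have c₂ : #B₂ = #K := by let := g.toAlgebra; exact mk_transcendenceBasis hF hK v₂ hv₂
  obtain ⟨eB⟩ := Cardinal.eq.1 (c₁.trans c₂.symm)
  have hv₂' : @IsTranscendenceBasis B₁ F K _ _ g.toAlgebra (v₂ ∘ eB) :=
    (by let := g.toAlgebra; exact hv₂.comp_equiv eB)
  obtain ⟨q₁, h₁, t₁⟩ := @exists_fractionMap F K B₁ _ _ f.toAlgebra v₁ hv₁
  obtain ⟨q₂, h₂, t₂⟩ := @exists_fractionMap F K B₁ _ _ g.toAlgebra (v₂ ∘ eB) hv₂'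
  obtain ⟨σ, hσ⟩ : ∃ σ : K ≃+* K, σ.toRingHom.comp q₁ = q₂ :=
    @exists_equiv _ K K _ _ _ q₁.toAlgebra q₂.toAlgebra
      (@IsAlgClosure.mk _ K _ _ q₁.toAlgebra _ inferInstance t₁)
      (@IsAlgClosure.mk _ K _ _ q₂.toAlgebra _ inferInstance t₂)
  refine ⟨σ, RingHom.ext fun a => ?_⟩
  have := RingHom.congr_fun hσ (algebraMap (MvPolynomial B₁ F) _ (MvPolynomial.C a))
  rw [RingHom.comp_apply, h₁, h₂] at this
  exact this

end Groth.Agent.BigFieldLib
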