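import Mathlib

/-!
The Nullstellensatz for a large algebraically closed field, and extensions of embeddings of small
fields.
-/

set_option autoImplicit false

universe u

open Cardinal TensorProduct

namespace Groth.Agent.BigFieldLib

theorem bijective_of_adjoin_eq_top {k E : Type u} [Field k] [IsAlgClosed k] [Field E] [Algebra k E]
    (s : Set E) (hs : Algebra.adjoin k s = ⊤) (hk : #s < #k) :
    Function.Bijective (algebraMap k E) := by
  refine IsAlgClosed.ringHom_bijective_of_isIntegral _ ?_
  suffices Algebra.IsAlgebraic k E by
    haveI := this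
    exact fun x => Algebra.IsIntegral.isIntegral x
  rcases s.finite_or_infinite with hfin | hinf
  · haveI : Algebra.FiniteType k E := ⟨⟨hfin.toFinset, by simpa using hs⟩⟩
    haveI := finite_of_finite_type_of_isJacobsonRing k E
    exact Algebra.IsAlgebraic.of_finite k E
  · refine ⟨fun t => by_contra fun ht => ?_⟩
    have h1 := (Transcendental.linearIndependent_sub_inv (x := t) ht).cardinal_le_rank
    haveI : Infinite s := hinf.to_subtype
    have h2 : Module.rank k E ≤ #s := by
      have hspan : Submodule.span k (Submonoid.closure s : Set E) = ⊤ := by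
        rw [← Algebra.adjoin_eq_span, hs, Algebra.top_toSubmodule]
      calc Module.rank k E = Module.rank k (Submodule.span k (Submonoid.closure s : Set E)) := by
              rw [hspan, rank_top]
        _ ≤ #(Submonoid.closure s : Set E) := rank_span_le _
        _ ≤ #(List s) := by
              refine mk_le_of_surjective (f := fun l : List s =>
                (⟨(l.map Subtype.val).prod, Submonoid.list_prod_mem _ (fun x hx => by
                  obtain ⟨y, -, rfl⟩ := List.mem_map.1 hx
                  exact Submonoid.subset_closure y.2)⟩ : (Submonoid.closure s : Set E))) ?_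
              rintro ⟨x, hx⟩
              obtain ⟨l, hl, rfl⟩ := Submonoid.exists_list_of_mem_closure hx
              lift l to List s using hl
              exact ⟨l, rfl⟩
        _ = #s := by rw [mk_list_eq_mk]
    exact absurd hk (not_lt.2 (h1.trans h2))

/-- An embedding of `F` into a large algebraically closed field extends to small extensions. -/
theorem exists_extension {F L k : Type u} [Field F] [Field L] [Field k] [IsAlgClosed k]
    (φ : F →+* L) (ψ : F →+* k) (h : #L < #k) : ∃ χ : L →+* k, χ.comp φ = ψ := by
  algebraize [φ, ψ]
  haveI : Nontrivial (k ⊗[F] L) :=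
    Algebra.TensorProduct.nontrivial_of_algebraMap_injective_of_isDomain F k L
      (algebraMap F k).injective (algebraMap F L).injective
  obtain ⟨m, hm⟩ := Ideal.exists_maximal (k ⊗[F] L)
  letI := Ideal.Quotient.field m
  let π : (k ⊗[F] L) →ₐ[k] (k ⊗[F] L) ⧸ m := Ideal.Quotient.mkₐ k m
  let j : L →+* (k ⊗[F] L) ⧸ m := π.toRingHom.comp
    (Algebra.TensorProduct.includeRight (R := F) (A := k) (B := L)).toRingHom
  have hgen : Algebra.adjoin k (Set.range j) = ⊤ := by
    rw [eq_top_iff]
    rintro x -
    obtain ⟨y, rfl⟩ := Ideal.Quotient.mk_surjective x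
    induction y using TensorProduct.induction_on with
    | zero => simp
    | tmul a b =>
      have : (a ⊗ₜ[F] b : k ⊗[F] L) = a • ((1 : k) ⊗ₜ[F] b) := by rw [TensorProduct.smul_tmul', smul_eq_mul, mul_one]
      rw [this]
      show π (a • _) ∈ _
      rw [map_smul]
      exact Subalgebra.smul_mem _ (Algebra.subset_adjoin (Set.mem_range_self (f := j) b)) a
    | add a b ha hb => rw [map_add]; exact add_mem ha hb
  let e := RingEquiv.ofBijective (algebraMap k ((k ⊗[F] L) ⧸ m))
    (bijective_of_adjoin_eq_top _ hgen (mk_range_le.trans_lt h))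
  refine ⟨e.symm.toRingHom.comp j, RingHom.ext fun a => ?_⟩
  show e.symm (j (φ a)) = ψ a
  rw [RingEquiv.symm_apply_eq]
  show π ((1 : k) ⊗ₜ[F] algebraMap F L a) = π (algebraMap F k a ⊗ₜ[F] (1 : L))
  rw [Algebra.TensorProduct.tmul_one_eq_one_tmul]

end Groth.Agent.BigFieldLib
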