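import Groth.Agent.BigFieldLib.Embed
import Groth.Agent.ASp.Points
import Groth.Agent.ASp.Basic
import Groth.Agent.EtaleSplit.GeomPoint
import Groth.Agent.Unibranch.Open
import Groth.Prelude.Def_AlgSpDec
import Mathlib.AlgebraicGeometry.AlgClosed.Basic

/-!
Geometric points with values in a large algebraically closed field lift along morphisms of algebraic
spaces.
-/

set_option autoImplicit false
set_option backward.isDefEq.respectTransparency false

universe u

open CategoryTheory CategoryTheory.Limits AlgebraicGeometry Opposite Cardinal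
open _root_.AlgSp

namespace Groth.Agent.BigFieldLib

theorem exists_desc {X : Scheme.{u}} {K : Type u} [Field K] (t : Spec (CommRingCat.of K) ⟶ X) (x : X)
    (hx : t (IsLocalRing.closedPoint K) = x) :
    ∃ ψ : X.residueField x ⟶ CommRingCat.of K, Spec.map ψ ≫ X.fromSpecResidueField x = t := by
  subst hx
  exact ⟨_, Scheme.descResidueField_stalkClosedPointTo_fromSpecResidueField K X t⟩

theorem mk_lt_of_finite {F L : Type u} [Field F] [Field L] (φ : F →+* L) (hfin : φ.Finite)
    {c : Cardinal.{u}} (hc : ℵ₀ ≤ c) (h : #F < c) : #L < c := by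
  algebraize [φ]
  obtain ⟨n, g, hg⟩ := Module.Finite.exists_fin' F L
  refine (mk_le_of_surjective hg).trans_lt ?_
  rcases finite_or_infinite F with hF | hF
  · exact (lt_aleph0_of_finite _).trans_le hc
  · rw [mk_arrow, lift_id'.{0, u}, mk_fin, lift_natCast]
    exact (power_nat_le (aleph0_le_mk F)).trans_lt h

variable {S : Scheme.{u}}

theorem exists_geometric_lift {X Y : AlgSp.Space S} (f : X ⟶ Y)
    {U : Over S} (α : (AlgSp.yon S).obj U ⟶ X.obj) (has : AlgSp.RepWith @Surjective α)
    (ybar : AlgSp.FieldPt Y.obj) (hy : ybar.IsGeometric)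
    (hk : ∀ u : ↥U.left, Cardinal.mk ↥(U.left.residueField u) < Cardinal.mk ybar.K)
    (x : AlgSp.Points X.obj) (hx : AlgSp.Points.map f.hom x = AlgSp.Points.mk ybar) :
    ∃ xbar : (AlgSp.yon S).obj ybar.pt ⟶ X.obj, xbar ≫ f.hom = ybar.toHom ∧
      AlgSp.Points.ofPt xbar (IsLocalRing.closedPoint ybar.K) = x := by
  haveI : IsAlgClosed ybar.K := hy
  obtain ⟨u, rfl⟩ := ASp.surjective_ofPt has x
  obtain ⟨V, q, qe, qs⟩ := Y.property.atlas
  -- a lift of the geometric point to the atlas
  obtain ⟨Z, a, b, sq⟩ := ASp.exists_isPullback_yon qe.1 ybar.toHom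
  haveI : Etale b.left := qe.2 _ _ _ sq
  haveI : Surjective b.left := qs.2 _ _ _ sq
  let β : Z.left ⟶ Spec (CommRingCat.of ybar.K) := b.left
  haveI : Etale β := ‹Etale b.left›
  haveI : Surjective β := ‹Surjective b.left›
  obtain ⟨z₀, -⟩ := β.surjective (IsLocalRing.closedPoint ybar.K)
  haveI : JacobsonSpace Z.left := LocallyOfFiniteType.jacobsonSpace β
  obtain ⟨z, -, hz⟩ := nonempty_inter_closedPoints (Z := (Set.univ : Set Z.left)) ⟨z₀, trivial⟩
    isClosed_univ.isLocallyClosed
  let σ : ybar.pt ⟶ Z := Over.homMk (pointOfClosedPoint β z hz) (by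
    rw [← Over.w b]
    exact (pointOfClosedPoint_comp_assoc β z hz ybar.str))
  have hσ : σ ≫ b = 𝟙 _ := Over.OverMorphism.ext (pointOfClosedPoint_comp β z hz)
  let vk : ybar.pt ⟶ V := σ ≫ a
  have hvk : (yon S).map vk ≫ q = ybar.toHom := by
    rw [Functor.map_comp, Category.assoc, sq.w, ← Category.assoc, ← Functor.map_comp, hσ]
    simp
  -- a point of `U ×_Y V` over the two given points
  obtain ⟨W, a', b', sq'⟩ := ASp.exists_isPullback_yon qe.1 (α ≫ f.hom)
  haveI : Etale b'.left := qe.2 _ _ _ sq'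
  obtain ⟨w, hwv, hwu⟩ := (ASp.ofPt_eq_ofPt_iff sq' (vk.left (IsLocalRing.closedPoint ybar.K)) u).1 (by
    rw [← ASp.ofPt_yon_map_comp vk q, hvk, Points.ofPt_toHom, ← Points.map_ofPt, hx])
  subst hwu
  obtain ⟨ψ, hψ⟩ := exists_desc (vk.left : Spec (CommRingCat.of ybar.K) ⟶ V.left) (a'.left w) hwv.symm
  have hc : ℵ₀ ≤ #ybar.K := aleph0_le_mk ybar.K
  have hcard : #(W.left.residueField w) < #ybar.K :=
    mk_lt_of_finite _ (haveI := Unibranch.locallyQuasiFinite_of_etale b'.left; EtaleSplit.finite_residueFieldMap b'.left w (b'.left.quasiFiniteAt w)) hc (hk _)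
  obtain ⟨χ, hχ⟩ := exists_extension (a'.left.residueFieldMap w).hom ψ.hom hcard
  let h : Spec (CommRingCat.of ybar.K) ⟶ W.left :=
    Spec.map (CommRingCat.ofHom χ) ≫ W.left.fromSpecResidueField w
  have ha' : h ≫ a'.left = vk.left := by
    have hχ' : a'.left.residueFieldMap w ≫ CommRingCat.ofHom χ = ψ := CommRingCat.hom_ext hχ
    refine Eq.trans ?_ hψ
    rw [← hχ', Spec.map_comp, Category.assoc, Category.assoc,
      Scheme.Hom.SpecMap_residueFieldMap_fromSpecResidueField]
  let hW : ybar.pt ⟶ W := Over.homMk h (by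
    rw [← Over.w a', ← Category.assoc, ha']; exact Over.w vk)
  have hWa : hW ≫ a' = vk := Over.OverMorphism.ext ha'
  refine ⟨(yon S).map (hW ≫ b') ≫ α, ?_, ?_⟩
  · rw [Category.assoc, Functor.map_comp, Category.assoc, ← sq'.w, ← Category.assoc,
      ← Functor.map_comp, hWa, hvk]
  · rw [ASp.ofPt_yon_map_comp]
    congr 1
    have hw : hW.left (IsLocalRing.closedPoint ybar.K) = w := by
      show (Spec.map (CommRingCat.ofHom χ) ≫ W.left.fromSpecResidueField w) _ = w
      rw [Scheme.Hom.comp_apply]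
      exact Scheme.fromSpecResidueField_apply w _
    rw [Over.comp_left, Scheme.Hom.comp_apply, hw]

end Groth.Agent.BigFieldLib
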